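import Groth.Prelude.Def_HopfRep
import Groth.Prelude.Def_Hoch
import Mathlib.RingTheory.Flat.Basic
import Mathlib.LinearAlgebra.FreeModule.Finite.Basic
import Mathlib.LinearAlgebra.TensorProduct.Basis
import Mathlib.LinearAlgebra.Projection
import Mathlib.Order.Zorn

/-!
# Comodules over a field: subcomodules, local finiteness, complements, Reynolds operators
-/

open TensorProduct HopfRep

namespace Groth.Agent.Comodule

universe u v w w'

variable {k : Type u} [Field k] {A : Type v} [CommRing A] [Bialgebra k A]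
variable {V : Type w} [AddCommGroup V] [Module k V] [Comod k A V]
variable {W : Type w'} [AddCommGroup W] [Module k W] [Comod k A W]

/-- The subspace `W ⊗ A` of `V ⊗ A`. -/
def tens (A : Type v) [CommRing A] [Bialgebra k A] (N : Submodule k V) : Submodule k (V ⊗[k] A) :=
  LinearMap.range (N.subtype.rTensor A)

omit [Comod k A V] in
lemma tens_mono {N N' : Submodule k V} (h : N ≤ N') : tens A N ≤ tens A N' := by
  have : N.subtype = N'.subtype ∘ₗ Submodule.inclusion h := by ext; rfl
  rw [tens, this, LinearMap.rTensor_comp]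
  exact LinearMap.range_comp_le_range _ _

omit [Comod k A V] in
lemma tmul_mem_tens {N : Submodule k V} {v : V} (hv : v ∈ N) (a : A) : v ⊗ₜ[k] a ∈ tens A N :=
  ⟨⟨v, hv⟩ ⊗ₜ a, rfl⟩

lemma isSubcomod_def {N : Submodule k V} :
    IsSubcomod (k := k) (A := A) N ↔ ∀ v ∈ N, Comod.coact (k := k) (A := A) v ∈ tens A N := Iff.rfl

lemma isSubcomod_bot : IsSubcomod (k := k) (A := A) (⊥ : Submodule k V) := by
  intro v hv
  simp [(Submodule.mem_bot k).mp hv]

lemma isSubcomod_iSup {ι : Sort*} (N : ι → Submodule k V) (h : ∀ i, IsSubcomod (k := k) (A := A) (N i)) :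
    IsSubcomod (k := k) (A := A) (⨆ i, N i) := by
  have : ⨆ i, N i ≤ (tens A (⨆ i, N i)).comap (Comod.coact (k := k) (A := A)) :=
    iSup_le fun i v hv => tens_mono (le_iSup N i) (h i v hv)
  exact fun v hv => this hv

lemma isSubcomod_sup {N N' : Submodule k V} (h : IsSubcomod (k := k) (A := A) N)
    (h' : IsSubcomod (k := k) (A := A) N') : IsSubcomod (k := k) (A := A) (N ⊔ N') := by
  have : N ⊔ N' ≤ (tens A (N ⊔ N')).comap (Comod.coact (k := k) (A := A)) :=
    sup_le (fun v hv => tens_mono le_sup_left (h v hv)) (fun v hv => tens_mono le_sup_right (h' v hv))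
  exact fun v hv => this hv

lemma isSubcomod_fixedPts : IsSubcomod (k := k) (A := A) (fixedPts k A V) := by
  intro v hv
  rw [show Comod.coact (k := k) (A := A) v = v ⊗ₜ[k] (1 : A) from hv]
  exact tmul_mem_tens hv 1

lemma comodHom_apply {f : V →ₗ[k] W} (hf : Hoch.IsComodHom A f) (v : V) :
    Comod.coact (k := k) (A := A) (f v) = f.rTensor A (Comod.coact (k := k) (A := A) v) :=
  LinearMap.congr_fun hf v

lemma isSubcomod_map {f : V →ₗ[k] W} (hf : Hoch.IsComodHom A f) {N : Submodule k V}
    (hN : IsSubcomod (k := k) (A := A) N) : IsSubcomod (k := k) (A := A) (N.map f) := by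
  rintro _ ⟨v, hv, rfl⟩
  obtain ⟨x, hx⟩ := hN v hv
  rw [comodHom_apply hf, ← hx]
  refine ⟨((f.domRestrict N).codRestrict (N.map f) fun a => Submodule.mem_map_of_mem a.2).rTensor A x, ?_⟩
  rw [← LinearMap.rTensor_comp_apply, ← LinearMap.rTensor_comp_apply]
  rfl

omit [Comod k A V] [Comod k A W] in
lemma mem_tens_ker_iff (f : V →ₗ[k] W) (x : V ⊗[k] A) :
    x ∈ tens A (LinearMap.ker f) ↔ f.rTensor A x = 0 := by
  have h : Function.Exact (LinearMap.ker f).subtype f := LinearMap.exact_subtype_ker_map f
  have := Module.Flat.rTensor_exact (R := k) A h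
  exact (this x).symm

lemma isSubcomod_ker {f : V →ₗ[k] W} (hf : Hoch.IsComodHom A f) :
    IsSubcomod (k := k) (A := A) (LinearMap.ker f) := by
  intro v hv
  refine (mem_tens_ker_iff f _).mpr ?_
  rw [← comodHom_apply hf, LinearMap.mem_ker.mp hv, map_zero]

omit [Comod k A V] in
lemma rTensor_subtype_injective (N : Submodule k V) : Function.Injective (N.subtype.rTensor A) :=
  Module.Flat.rTensor_preserves_injective_linearMap _ N.injective_subtype

omit [Comod k A V] in
lemma tens_inf (N N' : Submodule k V) {x : V ⊗[k] A} (hx : x ∈ tens A N) (hx' : x ∈ tens A N') :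
    x ∈ tens A (N ⊓ N') := by
  obtain ⟨y, rfl⟩ := hx
  have h0 : (N'.mkQ ∘ₗ N.subtype).rTensor A y = 0 := by
    obtain ⟨z, hz⟩ := hx'
    rw [LinearMap.rTensor_comp_apply, ← hz, ← LinearMap.rTensor_comp_apply,
      show N'.mkQ ∘ₗ N'.subtype = 0 from LinearMap.ext fun a => by simp]
    simp
  obtain ⟨z, rfl⟩ := (mem_tens_ker_iff _ y).mpr h0
  have hle : ∀ a ∈ (LinearMap.ker (N'.mkQ ∘ₗ N.subtype)), (a : V) ∈ N ⊓ N' := fun a ha =>
    ⟨a.2, by simpa using ha⟩
  refine ⟨((N.subtype ∘ₗ (LinearMap.ker (N'.mkQ ∘ₗ N.subtype)).subtype).codRestrict (N ⊓ N')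
    fun a => hle a.1 a.2).rTensor A z, ?_⟩
  rw [← LinearMap.rTensor_comp_apply, ← LinearMap.rTensor_comp_apply]
  rfl

lemma isSubcomod_inf {N N' : Submodule k V} (h : IsSubcomod (k := k) (A := A) N)
    (h' : IsSubcomod (k := k) (A := A) N') : IsSubcomod (k := k) (A := A) (N ⊓ N') :=
  fun v hv => tens_inf N N' (h v hv.1) (h' v hv.2)

/-- The coaction restricted to a subcomodule. -/
noncomputable def coactRestrict (N : Submodule k V) (hN : IsSubcomod (k := k) (A := A) N) :
    N →ₗ[k] N ⊗[k] A :=
  (LinearEquiv.ofInjective (N.subtype.rTensor A) (rTensor_subtype_injective N)).symm.toLinearMap ∘ₗ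
    LinearMap.codRestrict (LinearMap.range (N.subtype.rTensor A))
      (Comod.coact (k := k) (A := A) ∘ₗ N.subtype) (fun x => hN x.1 x.2)

lemma rTensor_coactRestrict (N : Submodule k V) (hN : IsSubcomod (k := k) (A := A) N) (x : N) :
    N.subtype.rTensor A (coactRestrict N hN x) = Comod.coact (k := k) (A := A) (x : V) :=
  congrArg Subtype.val
    ((LinearEquiv.ofInjective (N.subtype.rTensor A) (rTensor_subtype_injective N)).apply_symm_apply _)

/-- The comodule structure on a subcomodule. -/
@[reducible] noncomputable def subComod (N : Submodule k V) (hN : IsSubcomod (k := k) (A := A) N) :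
    Comod k A N where
  coact := coactRestrict N hN
  coassoc := by
    refine LinearMap.ext fun x => ?_
    apply Module.Flat.rTensor_preserves_injective_linearMap (M := A ⊗[k] A) _ N.injective_subtype
    have h := LinearMap.congr_fun (Comod.coassoc (k := k) (A := A) (V := V)) (x : V)
    have e1 : ∀ z : (N ⊗[k] A) ⊗[k] A, N.subtype.rTensor (A ⊗[k] A) (TensorProduct.assoc k N A A z) =
        TensorProduct.assoc k V A A ((N.subtype.rTensor A).rTensor A z) := by
      intro z
      refine LinearMap.congr_fun (?_ : N.subtype.rTensor (A ⊗[k] A) ∘ₗ (TensorProduct.assoc k N A A).toLinearMap =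
        (TensorProduct.assoc k V A A).toLinearMap ∘ₗ (N.subtype.rTensor A).rTensor A) z
      ext; rfl
    have e2 : N.subtype.rTensor A ∘ₗ coactRestrict N hN = Comod.coact (k := k) (A := A) ∘ₗ N.subtype :=
      LinearMap.ext (rTensor_coactRestrict N hN)
    simp only [LinearMap.comp_apply, LinearEquiv.coe_coe] at h ⊢
    rw [e1, ← LinearMap.rTensor_comp_apply A (N.subtype.rTensor A) (coactRestrict N hN), e2, LinearMap.rTensor_comp_apply,
      rTensor_coactRestrict, h, ← rTensor_coactRestrict N hN x]
    generalize coactRestrict N hN x = y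
    clear h e1 e2
    induction y with
    | zero => simp only [map_zero]
    | tmul m n => rfl
    | add p q hp hq => simp only [map_add, hp, hq]
  counit_comp := by
    refine LinearMap.ext fun x => ?_
    apply Module.Flat.rTensor_preserves_injective_linearMap (M := k) _ N.injective_subtype
    have h := LinearMap.congr_fun (Comod.counit_comp (k := k) (A := A) (V := V)) (x : V)
    simp only [LinearMap.comp_apply] at h ⊢
    rw [← LinearMap.comp_apply (N.subtype.rTensor k), LinearMap.rTensor_comp_lTensor,
      ← LinearMap.lTensor_comp_rTensor, LinearMap.comp_apply, rTensor_coactRestrict, h]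
    rfl

lemma isComodHom_subtype (N : Submodule k V) (hN : IsSubcomod (k := k) (A := A) N) :
    letI := subComod N hN
    Hoch.IsComodHom A N.subtype := by
  let := subComod N hN
  exact LinearMap.ext fun x => (rTensor_coactRestrict N hN x).symm

lemma isSubcomod_comap_subtype {N M : Submodule k V} (hN : IsSubcomod (k := k) (A := A) N)
    (hM : IsSubcomod (k := k) (A := A) M) :
    letI := subComod N hN
    IsSubcomod (k := k) (A := A) (M.comap N.subtype) := by
  letI := subComod N hN
  intro x hx
  have h := tens_inf N M (hN x.1 x.2) (hM x.1 hx)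
  obtain ⟨y, hy⟩ := h
  refine ⟨((N ⊓ M).subtype.codRestrict N (fun a => a.2.1)).codRestrict (M.comap N.subtype)
    (fun a => a.2.2) |>.rTensor A y, ?_⟩
  apply rTensor_subtype_injective (A := A) N
  show _ = N.subtype.rTensor A (coactRestrict N hN x)
  rw [rTensor_coactRestrict, ← hy, ← LinearMap.rTensor_comp_apply, ← LinearMap.rTensor_comp_apply]
  rfl

/-- Fundamental theorem of comodules: every vector lies in a finite-dimensional subcomodule. -/
theorem exists_finite_subcomod (v : V) :
    ∃ N : Submodule k V, IsSubcomod (k := k) (A := A) N ∧ Module.Finite k N ∧ v ∈ N := by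
  classical
  let b := Module.Free.chooseBasis k A
  let e := TensorProduct.equivFinsuppOfBasisRight (M := V) b
  set z := Comod.coact (k := k) (A := A) v with hzdef
  let N : Submodule k V := Submodule.span k (Set.range fun i : (e z).support => e z i.1)
  have hrepr : ∑ i ∈ (e z).support, (e z i) ⊗ₜ[k] b i = z := by
    conv_rhs => rw [← e.symm_apply_apply z]
    rw [show e.symm (e z) = (e z).sum fun i m => m ⊗ₜ[k] b i from
      TensorProduct.equivFinsuppOfBasisRight_symm_apply b (e z)]
    rfl
  have hmem : ∀ i, e z i ∈ N := by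
    intro i
    by_cases hi : i ∈ (e z).support
    · exact Submodule.subset_span ⟨⟨i, hi⟩, rfl⟩
    · rw [Finsupp.notMem_support_iff.mp hi]; exact N.zero_mem
  have hzN : z ∈ tens A N := by
    rw [← hrepr]; exact sum_mem fun i _ => tmul_mem_tens (hmem i) _
  have hfin : Module.Finite k N := Module.Finite.span_of_finite k (Set.finite_range _)
  refine ⟨N, ?_, hfin, ?_⟩
  · have : N ≤ (tens A N).comap (Comod.coact (k := k) (A := A)) := by
      refine Submodule.span_le.mpr ?_
      rintro _ ⟨⟨j, hj⟩, rfl⟩
      show Comod.coact (k := k) (A := A) (e z j) ∈ tens A N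
      let ψ : V ⊗[k] (A ⊗[k] A) →ₗ[k] V ⊗[k] A :=
        ((TensorProduct.rid k A).toLinearMap ∘ₗ (b.coord j).lTensor A).lTensor V
      have key : ψ (TensorProduct.assoc k V A A ((Comod.coact (k := k) (A := A)).rTensor A z)) =
          Comod.coact (k := k) (A := A) (e z j) := by
        conv_lhs => rw [← hrepr]
        simp only [map_sum, LinearMap.rTensor_tmul]
        have step : ∀ (x : V ⊗[k] A) (a : A),
            ψ (TensorProduct.assoc k V A A (x ⊗ₜ[k] a)) = b.coord j a • x := by
          intro x a
          induction x with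
          | zero => simp
          | tmul m n => simp [ψ, TensorProduct.smul_tmul']
          | add p q hp hq => simp [TensorProduct.add_tmul, hp, hq]
        simp only [step, Module.Basis.coord_apply, Module.Basis.repr_self, Finsupp.single_apply]
        rw [Finset.sum_eq_single j]
        · simp
        · intro i _ hij; simp [hij]
        · intro h; exact absurd hj h
      have hc := LinearMap.congr_fun (Comod.coassoc (k := k) (A := A) (V := V)) v
      simp only [LinearMap.comp_apply, LinearEquiv.coe_coe] at hc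
      rw [← hzdef] at hc
      rw [hc] at key
      rw [← key]
      obtain ⟨y, hy⟩ := hzN
      rw [← hy]
      refine ⟨((TensorProduct.rid k A).toLinearMap ∘ₗ (b.coord j).lTensor A).lTensor N
        ((CoalgebraStruct.comul (R := k) (A := A)).lTensor N y), ?_⟩
      clear hy key
      induction y with
      | zero => simp only [map_zero]
      | tmul m n => rfl
      | add p q hp hq => simp only [map_add, hp, hq]
    exact fun x hx => this hx
  · have hc := LinearMap.congr_fun (Comod.counit_comp (k := k) (A := A) (V := V)) v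
    simp only [LinearMap.comp_apply] at hc
    rw [← hzdef, ← hrepr, map_sum] at hc
    have := congrArg (TensorProduct.rid k V) hc
    simp at this
    rw [← this]
    exact sum_mem fun i _ => N.smul_mem _ (hmem i)

variable {V : Type v} [AddCommGroup V] [Module k V] [Comod k A V]
variable {W : Type v} [AddCommGroup W] [Module k W] [Comod k A W]

/-- For a linearly reductive group every subcomodule of any comodule has a complement. -/
theorem exists_isCompl (hG : IsLinearlyReductive k A) (M : Submodule k V)
    (hM : IsSubcomod (k := k) (A := A) M) :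
    ∃ N : Submodule k V, IsSubcomod (k := k) (A := A) N ∧ IsCompl M N := by
  let S : Set (Submodule k V) := {N | IsSubcomod (k := k) (A := A) N ∧ Disjoint M N}
  obtain ⟨N, -, hN⟩ := zorn_le_nonempty₀ S (fun c hc hch y hy => by
    refine ⟨sSup c, ⟨?_, ?_⟩, fun z hz => le_sSup hz⟩
    · rw [sSup_eq_iSup']; exact isSubcomod_iSup _ fun i => (hc i.2).1
    · rw [Submodule.disjoint_def]
      intro x hxM hx
      obtain ⟨z, hz, hxz⟩ := (Submodule.mem_sSup_of_directed ⟨y, hy⟩ hch.directedOn).mp hx
      exact Submodule.disjoint_def.mp (hc hz).2 x hxM hxz) ⊥ ⟨isSubcomod_bot, disjoint_bot_right⟩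
  refine ⟨N, hN.prop.1, hN.prop.2, ?_⟩
  rw [codisjoint_iff, Submodule.eq_top_iff']
  intro v
  obtain ⟨P, hP, hPfin, hvP⟩ := exists_finite_subcomod (k := k) (A := A) v
  letI := subComod P hP
  obtain ⟨C, hC, hCc⟩ := hG P hPfin ((M ⊔ N).comap P.subtype)
    (isSubcomod_comap_subtype hP (isSubcomod_sup hM hN.prop.1))
  have hC' : IsSubcomod (k := k) (A := A) (C.map P.subtype) :=
    isSubcomod_map (isComodHom_subtype P hP) hC
  have hdisj : Disjoint M (N ⊔ C.map P.subtype) := by
    rw [Submodule.disjoint_def]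
    intro x hxM hx
    obtain ⟨n, hn, c, hc, rfl⟩ := Submodule.mem_sup.mp hx
    obtain ⟨c, hcC, rfl⟩ := hc
    have hc0 : c ∈ (M ⊔ N).comap P.subtype := by
      show (c : V) ∈ M ⊔ N
      have : (c : V) = (n + c) - n := by abel
      rw [this]
      exact sub_mem (Submodule.mem_sup_left hxM) (Submodule.mem_sup_right hn)
    have := Submodule.disjoint_def.mp hCc.disjoint c hc0 hcC
    subst this
    simp only [map_zero, add_zero] at hxM ⊢
    exact Submodule.disjoint_def.mp hN.prop.2 n hxM hn
  have hle := hN.le_of_ge ⟨isSubcomod_sup hN.prop.1 hC', hdisj⟩ le_sup_left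
  obtain ⟨a, ha, c, hc, hac⟩ := Submodule.mem_sup.mp (hCc.codisjoint.eq_top ▸ Submodule.mem_top : (⟨v, hvP⟩ : P) ∈ _)
  rw [show v = (a : V) + (c : V) from (congrArg Subtype.val hac).symm]
  exact add_mem ha (Submodule.mem_sup_right (hle (Submodule.mem_sup_right ⟨c, hc, rfl⟩)))

lemma isComodHom_projection {p q : Submodule k V} (h : IsCompl p q)
    (hp : IsSubcomod (k := k) (A := A) p) (hq : IsSubcomod (k := k) (A := A) q) :
    Hoch.IsComodHom A (p.projection q h) := by
  refine LinearMap.ext fun v => ?_
  obtain ⟨a, ha, b, hb, rfl⟩ := Submodule.mem_sup.mp (h.sup_eq_top ▸ Submodule.mem_top : v ∈ p ⊔ q)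
  have e1 : p.projection q h (a + b) = a := by
    rw [map_add, Submodule.projection_apply_of_mem_left h ha,
      Submodule.projection_apply_of_mem_right h hb, add_zero]
  obtain ⟨x, hx⟩ := hp a ha
  obtain ⟨y, hy⟩ := hq b hb
  have e2 : p.projection q h ∘ₗ p.subtype = p.subtype :=
    LinearMap.ext fun z => Submodule.projection_apply_of_mem_left h z.2
  have e3 : p.projection q h ∘ₗ q.subtype = 0 :=
    LinearMap.ext fun z => Submodule.projection_apply_of_mem_right h z.2
  simp only [LinearMap.comp_apply, e1]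
  rw [map_add, map_add, ← hx, ← hy, ← LinearMap.rTensor_comp_apply, ← LinearMap.rTensor_comp_apply,
    e2, e3]
  simp

/-- A comodule map to a comodule of fixed vectors kills every subcomodule without fixed vectors. -/
theorem apply_eq_zero (hG : IsLinearlyReductive k A) {f : V →ₗ[k] W} (hf : Hoch.IsComodHom A f)
    (hfix : ∀ v, f v ∈ fixedPts k A W) {N : Submodule k V} (hN : IsSubcomod (k := k) (A := A) N)
    (hN0 : Disjoint N (fixedPts k A V)) {x : V} (hx : x ∈ N) : f x = 0 := by
  have hK := isSubcomod_inf hN (isSubcomod_ker hf)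
  obtain ⟨C, hC, hc⟩ := exists_isCompl hG _ hK
  have hC' := isSubcomod_inf hN hC
  obtain ⟨a, ha, b, hb, rfl⟩ := Submodule.mem_sup.mp
    (hc.sup_eq_top ▸ Submodule.mem_top : x ∈ N ⊓ LinearMap.ker f ⊔ C)
  have hbN : b ∈ N := by simpa using sub_mem hx ha.1
  have hfb : b ∈ fixedPts k A V := by
    obtain ⟨y, hy⟩ := hC' b ⟨hbN, hb⟩
    have hinj : Function.Injective (f.domRestrict (N ⊓ C)) := by
      rw [← LinearMap.ker_eq_bot, eq_bot_iff]
      intro z hz
      exact Subtype.ext (Submodule.disjoint_def.mp hc.disjoint z.1 ⟨z.2.1, hz⟩ z.2.2)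
    have : y = (⟨b, hbN, hb⟩ : (N ⊓ C : Submodule k V)) ⊗ₜ[k] (1 : A) := by
      apply Module.Flat.rTensor_preserves_injective_linearMap (M := A) _ hinj
      rw [show f.domRestrict (N ⊓ C) = f ∘ₗ (N ⊓ C).subtype from rfl, LinearMap.rTensor_comp_apply,
        hy, ← comodHom_apply hf]
      exact hfix b
    show Comod.coact (k := k) (A := A) b = b ⊗ₜ[k] (1 : A)
    rw [← hy, this]; rfl
  have hb0 : b = 0 := Submodule.disjoint_def.mp hN0 b hbN hfb
  subst hb0
  simpa using LinearMap.mem_ker.mp ha.2

/-- `E` is a Reynolds operator on `V`. -/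
structure IsReynolds (E : V →ₗ[k] V) : Prop where
  comodHom : Hoch.IsComodHom A E
  idem : E ∘ₗ E = E
  fix : ∀ x, E x = x ↔ x ∈ fixedPts k A V

lemma IsReynolds.mem {E : V →ₗ[k] V} (h : IsReynolds (A := A) E) (x : V) : E x ∈ fixedPts k A V :=
  (h.fix _).mp (LinearMap.congr_fun h.idem x)

theorem exists_reynolds (hG : IsLinearlyReductive k A) : ∃ E : V →ₗ[k] V, IsReynolds (A := A) E := by
  obtain ⟨N, hN, hc⟩ := exists_isCompl hG _ (isSubcomod_fixedPts (k := k) (A := A) (V := V))
  refine ⟨Submodule.projection _ N hc, isComodHom_projection hc isSubcomod_fixedPts hN, ?_, fun x => ?_⟩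
  · ext x
    exact Submodule.projection_apply_of_mem_left hc (Submodule.projection_apply_mem hc x)
  · constructor
    · intro h; rw [← h]; exact Submodule.projection_apply_mem hc x
    · intro h; exact Submodule.projection_apply_of_mem_left hc h

theorem IsReynolds.comp_comm (hG : IsLinearlyReductive k A) {E : V →ₗ[k] V} {E' : W →ₗ[k] W}
    (hE : IsReynolds (A := A) E) (hE' : IsReynolds (A := A) E') {f : V →ₗ[k] W}
    (hf : Hoch.IsComodHom A f) : E' ∘ₗ f = f ∘ₗ E := by
  refine LinearMap.ext fun x => ?_
  have hEf : Hoch.IsComodHom A (E' ∘ₗ f) := by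
    refine LinearMap.ext fun v => ?_
    simp only [LinearMap.comp_apply]
    rw [comodHom_apply hE'.comodHom, comodHom_apply hf, LinearMap.rTensor_comp_apply]
  have hker : E' (f (x - E x)) = 0 := by
    refine apply_eq_zero hG hEf (fun v => hE'.mem _) (isSubcomod_ker hE.comodHom) ?_ ?_
    · rw [Submodule.disjoint_def]
      intro v hv hv'
      rw [← (hE.fix v).mpr hv', LinearMap.mem_ker.mp hv]
    · rw [LinearMap.mem_ker, map_sub, ← LinearMap.comp_apply, hE.idem, sub_self]
  have hfix : E' (f (E x)) = f (E x) := by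
    refine (hE'.fix _).mpr ?_
    show Comod.coact (k := k) (A := A) (f (E x)) = f (E x) ⊗ₜ[k] (1 : A)
    rw [comodHom_apply hf, show Comod.coact (k := k) (A := A) (E x) = _ from hE.mem x]
    rfl
  simp only [LinearMap.comp_apply]
  rw [map_sub, map_sub, sub_eq_zero] at hker
  rw [hker, hfix]

theorem IsReynolds.unique (hG : IsLinearlyReductive k A) {E E' : V →ₗ[k] V}
    (hE : IsReynolds (A := A) E) (hE' : IsReynolds (A := A) E') : E' = E := by
  have h : Hoch.IsComodHom A (LinearMap.id : V →ₗ[k] V) := by
    refine LinearMap.ext fun v => ?_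
    simp
  simpa using hE.comp_comm hG hE' h

/-- The Reynolds operator preserves every subcomodule. -/
theorem IsReynolds.apply_mem (hG : IsLinearlyReductive k A) {E : V →ₗ[k] V}
    (hE : IsReynolds (A := A) E) {N : Submodule k V} (hN : IsSubcomod (k := k) (A := A) N) {x : V}
    (hx : x ∈ N) : E x ∈ N := by
  letI := subComod N hN
  obtain ⟨E₀, hE₀⟩ := exists_reynolds (V := N) (A := A) hG
  have := LinearMap.congr_fun (IsReynolds.comp_comm hG hE₀ hE (isComodHom_subtype N hN)) ⟨x, hx⟩
  rw [show E x = (E₀ ⟨x, hx⟩ : V) from this]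
  exact (E₀ _).2

end Groth.Agent.Comodule
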