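import Groth.Agent.Lib.Comodule.Basic
import Groth.Prelude.Def_GLin
import Mathlib.RingTheory.Jacobson.Ring
import Mathlib.RingTheory.Jacobson.Artinian
import Mathlib.FieldTheory.IsAlgClosed.Basic
import Mathlib.RingTheory.MvPolynomial.Homogeneous

/-!
# Actions in coaction form: orbit maps and closures
-/

open TensorProduct HopfRep

namespace Groth.Agent.Comodule

universe u v w

section Ring

variable {k : Type u} [CommRing k] {A : Type v} [CommRing A] [Bialgebra k A]
variable {R : Type w} [CommRing R] [Algebra k R] [Comod k A R] [GLin.IsCoactAlg k A R]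

lemma orbitHom_toLinearMap (x : R →ₐ[k] k) :
    (GLin.orbitHom k A x).toLinearMap =
      (TensorProduct.lid k A).toLinearMap ∘ₗ x.toLinearMap.rTensor A ∘ₗ Comod.coact (k := k) (A := A) := rfl

lemma orbitHom_apply (x : R →ₐ[k] k) (f : R) :
    GLin.orbitHom k A x f = TensorProduct.lid k A (x.toLinearMap.rTensor A (Comod.coact (k := k) (A := A) f)) :=
  rfl

/-- The orbit map is equivariant. -/
lemma isComodHom_orbitHom (x : R →ₐ[k] k) :
    Hoch.IsComodHom A (GLin.orbitHom k A x).toLinearMap := by
  refine LinearMap.ext fun f => ?_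
  have h := congrArg (fun z => TensorProduct.lid k (A ⊗[k] A) (x.toLinearMap.rTensor (A ⊗[k] A) z))
    (LinearMap.congr_fun (Comod.coassoc (k := k) (A := A) (V := R)) f)
  simp only [LinearMap.comp_apply, LinearEquiv.coe_coe] at h
  have e1 : ∀ z : (R ⊗[k] A) ⊗[k] A,
      TensorProduct.lid k (A ⊗[k] A) (x.toLinearMap.rTensor (A ⊗[k] A) (TensorProduct.assoc k R A A z)) =
        ((TensorProduct.lid k A).toLinearMap ∘ₗ x.toLinearMap.rTensor A).rTensor A z := by
    intro z
    refine LinearMap.congr_fun (?_ : (TensorProduct.lid k (A ⊗[k] A)).toLinearMap ∘ₗ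
      x.toLinearMap.rTensor (A ⊗[k] A) ∘ₗ (TensorProduct.assoc k R A A).toLinearMap = _) z
    ext r a b
    simp [TensorProduct.smul_tmul']
  have e2 : ∀ z : R ⊗[k] A,
      TensorProduct.lid k (A ⊗[k] A) (x.toLinearMap.rTensor (A ⊗[k] A)
          ((CoalgebraStruct.comul (R := k) (A := A)).lTensor R z)) =
        CoalgebraStruct.comul (R := k) (TensorProduct.lid k A (x.toLinearMap.rTensor A z)) := by
    intro z
    induction z with
    | zero => simp
    | tmul r a => simp
    | add p q hp hq => simp only [map_add, hp, hq]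
  rw [e1, e2, ← LinearMap.rTensor_comp_apply] at h
  exact h.symm

lemma counit_comp_orbitHom (x : R →ₐ[k] k) : (Bialgebra.counitAlgHom k A).comp (GLin.orbitHom k A x) = x := by
  ext f
  have h := congrArg (fun z => TensorProduct.rid k k (x.toLinearMap.rTensor k z))
    (LinearMap.congr_fun (Comod.counit_comp (k := k) (A := A) (V := R)) f)
  simp only [LinearMap.comp_apply] at h
  show Coalgebra.counit (R := k) (GLin.orbitHom k A x f) = x f
  rw [orbitHom_apply]
  refine Eq.trans ?_ (h.trans (by simp))
  generalize Comod.coact (k := k) (A := A) f = z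
  induction z with
  | zero => simp
  | tmul r a => simp [mul_comm]
  | add p q hp hq => simp only [map_add, hp, hq]

lemma counit_orbitHom (x : R →ₐ[k] k) (f : R) : Coalgebra.counit (R := k) (GLin.orbitHom k A x f) = x f :=
  AlgHom.congr_fun (counit_comp_orbitHom x) f

lemma inOrbitClosure_self (x : R →ₐ[k] k) : GLin.InOrbitClosure k A x x := fun f hf => by
  rw [RingHom.mem_ker] at hf ⊢
  rw [← counit_orbitHom (A := A) x f, hf, map_zero]

lemma orbitHom_of_mem_invariants (x : R →ₐ[k] k) {f : R} (hf : f ∈ GLin.invariants k A R) :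
    GLin.orbitHom k A x f = algebraMap k A (x f) := by
  rw [orbitHom_apply, (GLin.mem_invariants_iff k A R f).mp hf]
  simp [Algebra.algebraMap_eq_smul_one]

lemma eq_of_inOrbitClosure {x z : R →ₐ[k] k} (h : GLin.InOrbitClosure k A x z) {f : R}
    (hf : f ∈ GLin.invariants k A R) : z f = x f := by
  have h1 : f - algebraMap k R (x f) ∈ RingHom.ker (GLin.orbitHom k A x) := by
    rw [RingHom.mem_ker, map_sub, orbitHom_of_mem_invariants x hf, AlgHom.commutes, sub_self]
  have h2 := h h1
  rwa [RingHom.mem_ker, map_sub, AlgHom.commutes, sub_eq_zero] at h2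

end Ring

section Field

variable {k : Type u} [Field k] {A : Type v} [CommRing A] [Bialgebra k A]
variable {R : Type v} [CommRing R] [Algebra k R] [Comod k A R] [GLin.IsCoactAlg k A R]

lemma isSubcomod_ker_orbitHom (x : R →ₐ[k] k) :
    IsSubcomod (k := k) (A := A) ((RingHom.ker (GLin.orbitHom k A x)).restrictScalars k) :=
  isSubcomod_ker (isComodHom_orbitHom x)

/-- A point over a proper ideal of a finite type algebra over an algebraically closed field. -/
lemma exists_point [IsAlgClosed k] {B : Type w} [CommRing B] [Algebra k B] [Algebra.FiniteType k B]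
    {I : Ideal B} (hI : I ≠ ⊤) : ∃ z : B →ₐ[k] k, I ≤ RingHom.ker z := by
  obtain ⟨m, hm, hIm⟩ := I.exists_le_maximal hI
  let : Field (B ⧸ m) := Ideal.Quotient.field m
  have : Algebra.FiniteType k (B ⧸ m) :=
    Algebra.FiniteType.of_surjective (Ideal.Quotient.mkₐ k m) (Ideal.Quotient.mk_surjective)
  have : Module.Finite k (B ⧸ m) := finite_of_finite_type_of_isJacobsonRing k (B ⧸ m)
  have hbij := IsAlgClosed.algebraMap_bijective_of_isIntegral (k := k) (K := B ⧸ m)
  let e : k ≃ₐ[k] (B ⧸ m) := AlgEquiv.ofBijective (Algebra.ofId k (B ⧸ m)) hbij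
  refine ⟨e.symm.toAlgHom.comp (Ideal.Quotient.mkₐ k m), fun b hb => ?_⟩
  rw [RingHom.mem_ker]
  simp [Ideal.Quotient.eq_zero_iff_mem.mpr (hIm hb)]

variable [IsAlgClosed k] [Algebra.FiniteType k R]

/-- Two points not separated by invariants have meeting orbit closures. -/
theorem exists_inOrbitClosure_both (hG : IsLinearlyReductive k A) {x₁ x₂ : R →ₐ[k] k}
    (h : ∀ f ∈ GLin.invariants k A R, x₁ f = x₂ f) :
    ∃ z : R →ₐ[k] k, GLin.InOrbitClosure k A x₁ z ∧ GLin.InOrbitClosure k A x₂ z := by
  set I₁ := RingHom.ker (GLin.orbitHom k A x₁)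
  set I₂ := RingHom.ker (GLin.orbitHom k A x₂)
  have hne : I₁ ⊔ I₂ ≠ ⊤ := by
    intro he
    obtain ⟨E, hE⟩ := exists_reynolds (V := R) (A := A) hG
    obtain ⟨a, ha, b, hb, hab⟩ := Submodule.mem_sup.mp (he ▸ Submodule.mem_top : (1 : R) ∈ I₁ ⊔ I₂)
    have h1 : E 1 = 1 := (hE.fix 1).mpr (GLin.invariants k A R).one_mem
    have ha' := hE.apply_mem hG (isSubcomod_ker_orbitHom x₁) (x := a) ha
    have hb' := hE.apply_mem hG (isSubcomod_ker_orbitHom x₂) (x := b) hb
    have e0 : ∀ (x : R →ₐ[k] k) (c : R), c ∈ RingHom.ker (GLin.orbitHom k A x) → x c = 0 :=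
      fun x c hc => inOrbitClosure_self x hc
    have e1 := e0 x₁ _ ha'
    have e2 := e0 x₂ _ hb'
    have hsum : E a + E b = 1 := by rw [← map_add, hab, h1]
    have : x₂ (E a) = 0 := by rw [← h _ (hE.mem a)]; exact e1
    have h2 := congrArg x₂ hsum
    rw [map_add, map_one, this, e2, add_zero] at h2
    exact zero_ne_one h2
  obtain ⟨z, hz⟩ := exists_point (k := k) hne
  exact ⟨z, le_sup_left.trans hz, le_sup_right.trans hz⟩

/-- Every point of the quotient lifts. -/
theorem exists_point_over (hG : IsLinearlyReductive k A) (y : GLin.invariants k A R →ₐ[k] k) :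
    ∃ x : R →ₐ[k] k, x.comp (GLin.invariants k A R).val = y := by
  have hne : Ideal.map (GLin.invariants k A R).val.toRingHom (RingHom.ker y) ≠ ⊤ := by
    intro he
    obtain ⟨E, hE⟩ := exists_reynolds (V := R) (A := A) hG
    let S : Submodule k R :=
      ((RingHom.ker y).restrictScalars k).map (GLin.invariants k A R).val.toLinearMap
    suffices h : ∀ r : R, r ∈ Ideal.map (GLin.invariants k A R).val.toRingHom (RingHom.ker y) →
        ∀ c, E (c * r) ∈ S by
      obtain ⟨q, hq, hq1⟩ := h 1 (he ▸ Submodule.mem_top) 1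
      rw [mul_one, (hE.fix 1).mpr (GLin.invariants k A R).one_mem] at hq1
      have : q = 1 := Subtype.ext hq1
      subst this
      simp at hq
    intro r hr
    induction hr using Submodule.span_induction with
    | mem r hr =>
      obtain ⟨a, ha, rfl⟩ := hr
      intro c
      have hy : ((a : R)) ∈ GLin.invariants k A R := a.2
      have hm : Hoch.IsComodHom A (LinearMap.mulRight k (a : R)) := by
        refine LinearMap.ext fun x => ?_
        simp only [LinearMap.comp_apply, LinearMap.mulRight_apply]
        rw [GLin.IsCoactAlg.coact_mul, (GLin.mem_invariants_iff k A R _).mp hy]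
        induction Comod.coact (k := k) (A := A) x with
        | zero => simp
        | tmul m a => simp [Algebra.TensorProduct.tmul_mul_tmul]
        | add p q hp hq => simp [add_mul, hp, hq]
      have : E (c * (a : R)) = E c * (a : R) := LinearMap.congr_fun (hE.comp_comm hG hE hm) c
      exact ⟨a * ⟨E c, hE.mem c⟩, (RingHom.ker y).mul_mem_right _ ha,
        by rw [show E (c * (GLin.invariants k A R).val.toRingHom a) = _ from this]; exact mul_comm _ _⟩
    | zero => intro c; simp
    | add p q _ _ hp hq => intro c; rw [mul_add, map_add]; exact S.add_mem (hp c) (hq c)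
    | smul b p _ hp => intro c; rw [smul_eq_mul, ← mul_assoc]; exact hp _
  obtain ⟨x, hx⟩ := exists_point (k := k) hne
  refine ⟨x, AlgHom.ext fun f => ?_⟩
  have h1 : f - algebraMap k _ (y f) ∈ RingHom.ker y := by simp [RingHom.mem_ker]
  have h2 := hx (Ideal.mem_map_of_mem (GLin.invariants k A R).val.toRingHom h1)
  rw [RingHom.mem_ker] at h2
  have h3 : x ((f : R) - algebraMap k R (y f)) = 0 := h2
  rw [map_sub, AlgHom.commutes, sub_eq_zero] at h3
  exact h3

end Field

section Linear

variable {k : Type u} [Field k] {A : Type v} [CommRing A] [Bialgebra k A]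
variable {ι : Type w} [Fintype ι] [Comod k A (MvPolynomial ι k)] [GLin.IsCoactAlg k A (MvPolynomial ι k)]

lemma rTensor_homogeneousComponent_coact (hlin : GLin.IsLinear k A ι) (d : ℕ) :
    Hoch.IsComodHom A (MvPolynomial.homogeneousComponent (σ := ι) (R := k) d) := by
  classical
  choose m hm using hlin
  let T : ℕ → Submodule k (MvPolynomial ι k ⊗[k] A) := fun e =>
    tens A (MvPolynomial.homogeneousSubmodule ι k e)
  have hmul : ∀ e e' (p q : MvPolynomial ι k ⊗[k] A), p ∈ T e → q ∈ T e' → p * q ∈ T (e + e') := by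
    intro e e' p q hp hq
    obtain ⟨p, rfl⟩ := hp
    obtain ⟨q, rfl⟩ := hq
    induction p with
    | zero => simp
    | add p p' hp hp' => rw [map_add, add_mul]; exact add_mem hp hp'
    | tmul f a =>
      induction q with
      | zero => simp
      | add q q' hq hq' => rw [map_add, mul_add]; exact add_mem hq hq'
      | tmul g b =>
        rw [LinearMap.rTensor_tmul, LinearMap.rTensor_tmul, Algebra.TensorProduct.tmul_mul_tmul]
        exact tmul_mem_tens (MvPolynomial.IsHomogeneous.mul f.2 g.2) _
  have hX : ∀ (n : ι →₀ ℕ), Comod.coact (k := k) (A := A) (MvPolynomial.monomial n (1 : k)) ∈ T n.degree := by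
    intro n
    rw [← GLin.coactAlgHom_apply, MvPolynomial.monomial_eq, map_one, one_mul, Finsupp.prod, map_prod]
    have key : ∀ (s : Finset ι), (∏ i ∈ s, GLin.coactAlgHom k A (MvPolynomial ι k) (MvPolynomial.X i ^ n i)) ∈
        T (∑ i ∈ s, n i) := by
      intro s
      induction s using Finset.induction_on with
      | empty =>
        rw [Finset.prod_empty, Finset.sum_empty, Algebra.TensorProduct.one_def]
        exact tmul_mem_tens (MvPolynomial.isHomogeneous_one ι k) _
      | insert i s hi ih =>
        rw [Finset.prod_insert hi, Finset.sum_insert hi]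
        refine hmul _ _ _ _ ?_ ih
        rw [map_pow, GLin.coactAlgHom_apply]
        have h1 : Comod.coact (k := k) (A := A) (MvPolynomial.X i : MvPolynomial ι k) ∈ T 1 := by
          rw [hm i]
          exact sum_mem fun j _ => tmul_mem_tens (MvPolynomial.isHomogeneous_X k j) _
        induction n i with
        | zero =>
          rw [pow_zero, Algebra.TensorProduct.one_def]
          exact tmul_mem_tens (MvPolynomial.isHomogeneous_one ι k) _
        | succ r ihr => rw [pow_succ]; exact hmul _ _ _ _ ihr h1
    exact key _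
  refine LinearMap.ext fun f => ?_
  simp only [LinearMap.comp_apply]
  induction f using MvPolynomial.induction_on' with
  | add p q hp hq => simp only [map_add, hp, hq]
  | monomial n a =>
    rw [show MvPolynomial.monomial n a = a • MvPolynomial.monomial n (1 : k) by simp [MvPolynomial.smul_monomial]]
    simp only [map_smul]
    congr 1
    obtain ⟨y, hy⟩ := hX n
    rw [← hy, ← LinearMap.rTensor_comp_apply,
      MvPolynomial.homogeneousComponent_of_mem ((MvPolynomial.mem_homogeneousSubmodule _ _).mpr
        (MvPolynomial.isHomogeneous_monomial (1 : k) rfl))]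
    have : (MvPolynomial.homogeneousComponent d) ∘ₗ (MvPolynomial.homogeneousSubmodule ι k n.degree).subtype =
        if d = n.degree then (MvPolynomial.homogeneousSubmodule ι k n.degree).subtype else 0 := by
      ext g : 1
      simp only [LinearMap.comp_apply, Submodule.subtype_apply]
      rw [MvPolynomial.homogeneousComponent_of_mem g.2]
      split_ifs <;> simp
    rw [this]
    split_ifs
    · exact hy.symm
    · simp

end Linear

end Groth.Agent.Comodule
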