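import Mathlib.Algebra.Polynomial.Laurent
import Mathlib.Algebra.Polynomial.AlgebraMap

/-!
# Laurent polynomials without negative terms
-/

open LaurentPolynomial

namespace Groth.Agent.Comodule

universe u
variable {k : Type u} [CommRing k]

lemma coeff_C_mul_T (a : k) (n m : ℤ) : (C a * T n : k[T;T⁻¹]).coeff m = if n = m then a else 0 := by
  rw [← LaurentPolynomial.single_eq_C_mul_T]
  simp [AddMonoidAlgebra.coeff_single, Finsupp.single_apply, -LaurentPolynomial.single_eq_C_mul_T]

lemma coeff_T_mul (f : k[T;T⁻¹]) (m n : ℤ) : (T m * f).coeff n = f.coeff (n - m) := by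
  induction f using LaurentPolynomial.induction_on' with
  | add p q hp hq => simp only [mul_add, AddMonoidAlgebra.coeff_add, Finsupp.add_apply, hp, hq]
  | C_mul_T a r =>
    rw [mul_left_comm, ← T_add, coeff_C_mul_T, coeff_C_mul_T]
    congr 1
    simp only [eq_iff_iff]
    omega

lemma coeff_toLaurent (p : Polynomial k) (n : ℤ) :
    (Polynomial.toLaurent p).coeff n = if 0 ≤ n then p.coeff n.toNat else 0 := by
  induction p using Polynomial.induction_on' with
  | add p q hp hq =>
    simp only [map_add, AddMonoidAlgebra.coeff_add, Finsupp.add_apply, hp, hq, Polynomial.coeff_add]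
    split_ifs <;> simp
  | monomial m a =>
    rw [Polynomial.toLaurent_C_mul_T, coeff_C_mul_T, Polynomial.coeff_monomial]
    by_cases h : 0 ≤ n
    · rw [if_pos h]; congr 1; simp only [eq_iff_iff]; omega
    · rw [if_neg h, if_neg (by omega)]

/-- `f` has no negative powers of `T`. -/
def NoNeg (f : k[T;T⁻¹]) : Prop := ∀ n : ℤ, n < 0 → f.coeff n = 0

lemma noNeg_toLaurent (p : Polynomial k) : NoNeg (Polynomial.toLaurent p) := fun n hn => by
  rw [coeff_toLaurent, if_neg (not_le.mpr hn)]

lemma noNeg_iff {f : k[T;T⁻¹]} : NoNeg f ↔ Polynomial.toLaurent (LaurentPolynomial.trunc f) = f := by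
  refine ⟨fun h => ?_, fun h => h ▸ noNeg_toLaurent _⟩
  ext n
  rw [coeff_toLaurent]
  split_ifs with hn
  · lift n to ℕ using hn
    simp [LaurentPolynomial.trunc]
  · exact (h n (by omega)).symm

lemma coeff_zero_trunc (f : k[T;T⁻¹]) : (LaurentPolynomial.trunc f).coeff 0 = f.coeff 0 := rfl

end Groth.Agent.Comodule
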