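import Groth.Agent.Lib.Comodule.CoactAlg
import Groth.Agent.Lib.Comodule.Laurent

/-!
# The numerical function of a one-parameter subgroup through lowest degrees
-/

open TensorProduct HopfRep LaurentPolynomial

namespace Groth.Agent.Comodule

universe u v w

variable {k : Type u} [Field k] {A : Type v} [CommRing A] [Bialgebra k A]
variable {ι : Type w} [Fintype ι] [Comod k A (MvPolynomial ι k)] [GLin.IsCoactAlg k A (MvPolynomial ι k)]

/-- The `i`-th coordinate of `v` moved by `lam`. -/
noncomputable def coordOrbit (lam : A →ₐc[k] k[T;T⁻¹]) (v : ι → k) (i : ι) : k[T;T⁻¹] :=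
  GLin.lamOrbit k A lam (GLin.vecPt k ι v) (MvPolynomial.X i)

lemma coordOrbit_ne_zero (lam : A →ₐc[k] k[T;T⁻¹]) {v : ι → k} {i : ι} (h : v i ≠ 0) :
    coordOrbit lam v i ≠ 0 := by
  intro h0
  apply h
  have e : Coalgebra.counit (R := k) (coordOrbit lam v i) = v i := by
    show Coalgebra.counit (R := k) (lam (GLin.orbitHom k A (GLin.vecPt k ι v) (MvPolynomial.X i))) = v i
    rw [CoalgHomClass.counit_comp_apply, counit_orbitHom]
    simp
  rw [← e, h0, map_zero]

/-- The smallest exponent occurring among the coordinates of `v` moved by `lam` is `d`. -/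
def IsLowest (lam : A →ₐc[k] k[T;T⁻¹]) (v : ι → k) (d : ℤ) : Prop :=
  (∀ i n, (coordOrbit lam v i).coeff n ≠ 0 → d ≤ n) ∧ ∃ i, (coordOrbit lam v i).coeff d ≠ 0

lemma IsLowest.unique {lam : A →ₐc[k] k[T;T⁻¹]} {v : ι → k} {d d' : ℤ} (h : IsLowest lam v d)
    (h' : IsLowest lam v d') : d = d' := by
  obtain ⟨i, hi⟩ := h.2
  obtain ⟨i', hi'⟩ := h'.2
  exact le_antisymm (h.1 _ _ hi') (h'.1 _ _ hi)

lemma exists_isLowest (lam : A →ₐc[k] k[T;T⁻¹]) {v : ι → k} (hv : v ≠ 0) : ∃ d, IsLowest lam v d := by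
  classical
  obtain ⟨i, hi⟩ := Function.ne_iff.mp hv
  let S := Finset.univ.biUnion fun i => (coordOrbit lam v i).coeff.support
  have hS : S.Nonempty := by
    obtain ⟨n, hn⟩ : ∃ n, (coordOrbit lam v i).coeff n ≠ 0 := by
      by_contra h
      exact coordOrbit_ne_zero lam hi (AddMonoidAlgebra.ext (Finsupp.ext fun n => by simpa using not_exists.mp h n))
    exact ⟨n, Finset.mem_biUnion.mpr ⟨i, Finset.mem_univ _, Finsupp.mem_support_iff.mpr hn⟩⟩
  refine ⟨S.min' hS, fun j n hn => Finset.min'_le _ _ ?_, ?_⟩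
  · exact Finset.mem_biUnion.mpr ⟨j, Finset.mem_univ _, Finsupp.mem_support_iff.mpr hn⟩
  · obtain ⟨j, -, hj⟩ := Finset.mem_biUnion.mp (S.min'_mem hS)
    exact ⟨j, Finsupp.mem_support_iff.mp hj⟩

lemma shiftedOrbit_X (lam : A →ₐc[k] k[T;T⁻¹]) (v : ι → k) (m : ℤ) (i : ι) :
    GLin.shiftedOrbit k A lam v m (MvPolynomial.X i) = T m * coordOrbit lam v i := by
  simp [GLin.shiftedOrbit, coordOrbit]

lemma isMu_iff (lam : A →ₐc[k] k[T;T⁻¹]) (v : ι → k) (m : ℤ) :
    GLin.IsMu k A lam v m ↔ IsLowest lam v (-m) := by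
  constructor
  · rintro ⟨h, hh, hne⟩
    have hX : ∀ i, Polynomial.toLaurent (h (MvPolynomial.X i)) = T m * coordOrbit lam v i := fun i => by
      rw [← shiftedOrbit_X]; exact AlgHom.congr_fun hh _
    have hco : ∀ i n, (coordOrbit lam v i).coeff n =
        (Polynomial.toLaurent (h (MvPolynomial.X i))).coeff (n + m) := fun i n => by
      rw [hX, coeff_T_mul]; simp
    refine ⟨fun i n hn => ?_, ?_⟩
    · by_contra hlt
      exact hn (by rw [hco]; exact noNeg_toLaurent _ _ (by omega))
    · by_contra hno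
      refine hne (MvPolynomial.algHom_ext fun i => ?_)
      have : (coordOrbit lam v i).coeff (-m) = 0 := by simpa using not_exists.mp hno i
      rw [hco, neg_add_cancel, coeff_toLaurent] at this
      simp only [AlgHom.comp_apply, MvPolynomial.aeval_X, Polynomial.aeval_def]
      simpa [Polynomial.coeff_zero_eq_eval_zero] using this
  · rintro ⟨hlow, i, hi⟩
    have hnn : ∀ j, NoNeg (T m * coordOrbit lam v j) := fun j n hn => by
      rw [coeff_T_mul]
      by_contra h
      have := hlow j _ h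
      omega
    refine ⟨MvPolynomial.aeval fun j => LaurentPolynomial.trunc (T m * coordOrbit lam v j),
      MvPolynomial.algHom_ext fun j => ?_, fun h => hi ?_⟩
    · rw [shiftedOrbit_X]
      simp only [AlgHom.comp_apply, MvPolynomial.aeval_X]
      exact noNeg_iff.mp (hnn j)
    · have := AlgHom.congr_fun h (MvPolynomial.X i)
      simp only [AlgHom.comp_apply, MvPolynomial.aeval_X, Polynomial.aeval_def] at this
      have h0 : (LaurentPolynomial.trunc (T m * coordOrbit lam v i)).coeff 0 = 0 := by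
        simpa [Polynomial.coeff_zero_eq_eval_zero] using this
      rw [coeff_zero_trunc, coeff_T_mul] at h0
      simpa using h0

lemma hasLimit_iff (lam : A →ₐc[k] k[T;T⁻¹]) (v : ι → k) :
    GLin.HasLimit k A lam (GLin.vecPt k ι v) ↔ ∀ i, NoNeg (coordOrbit lam v i) := by
  constructor
  · rintro ⟨h, hh⟩ i
    rw [coordOrbit, ← AlgHom.congr_fun hh (MvPolynomial.X i)]
    exact noNeg_toLaurent _
  · intro hn
    refine ⟨MvPolynomial.aeval fun j => LaurentPolynomial.trunc (coordOrbit lam v j),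
      MvPolynomial.algHom_ext fun j => ?_⟩
    simp only [AlgHom.comp_apply, MvPolynomial.aeval_X]
    exact noNeg_iff.mp (hn j)

lemma isLimit_zero_iff (lam : A →ₐc[k] k[T;T⁻¹]) (v : ι → k) :
    GLin.IsLimit k A lam (GLin.vecPt k ι v) (GLin.vecPt k ι (fun _ => (0 : k))) ↔
      ∀ i n, n ≤ 0 → (coordOrbit lam v i).coeff n = 0 := by
  constructor
  · rintro ⟨h, hh, h0⟩ i n hn
    rw [coordOrbit, ← AlgHom.congr_fun hh (MvPolynomial.X i)]
    rcases hn.lt_or_eq with hlt | rfl
    · exact noNeg_toLaurent _ n hlt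
    · have := AlgHom.congr_fun h0 (MvPolynomial.X i)
      simp only [AlgHom.comp_apply, MvPolynomial.aeval_X, Polynomial.aeval_def] at this
      show (Polynomial.toLaurent (h (MvPolynomial.X i))).coeff 0 = 0
      rw [coeff_toLaurent]
      simpa [Polynomial.coeff_zero_eq_eval_zero] using this
  · intro hn
    refine ⟨MvPolynomial.aeval fun j => LaurentPolynomial.trunc (coordOrbit lam v j),
      MvPolynomial.algHom_ext fun j => ?_, MvPolynomial.algHom_ext fun j => ?_⟩
    · simp only [AlgHom.comp_apply, MvPolynomial.aeval_X]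
      exact noNeg_iff.mp fun n hlt => hn j n hlt.le
    · simp only [AlgHom.comp_apply, MvPolynomial.aeval_X, Polynomial.aeval_def]
      have := hn j 0 le_rfl
      rw [← coeff_zero_trunc] at this
      simpa [Polynomial.coeff_zero_eq_eval_zero] using this

end Groth.Agent.Comodule
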